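import Groth.Agent.Lib.LocProp.EtaleTower
import Groth.Agent.Lib.AzMod.LG
import Mathlib

/-!
# Étaleness on the generic fibre through differentials
-/

set_option autoImplicit false
universe u

open TensorProduct CategoryTheory AlgebraicGeometry

namespace GrothLib.EtaEtale

attribute [local instance] Algebra.TensorProduct.rightAlgebra

theorem formallySmooth_and_rank {K S : Type u} [CommRing K] [CommRing S] [Algebra K S] (d : ℕ)
    (h : SmoothOfRelativeDimension d (Spec.map (CommRingCat.ofHom (algebraMap K S)))) :
    Algebra.Smooth K S ∧ Module.Finite S Ω[S⁄K] ∧ ∀ p : PrimeSpectrum S, Module.rankAtStalk (Ω[S⁄K]) p = d := by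
  have hs : Algebra.Smooth K S := by
    have h1 := SmoothOfRelativeDimension.smooth d (Spec.map (CommRingCat.ofHom (algebraMap K S)))
    rw [HasRingHomProperty.Spec_iff (P := @Smooth)] at h1
    exact RingHom.smooth_algebraMap.1 h1
  refine ⟨hs, inferInstance, fun p => ?_⟩
  obtain ⟨s, hspan, hst⟩ := (HasRingHomProperty.Spec_iff (P := @SmoothOfRelativeDimension d)).1 h
  obtain ⟨t, hts, htp⟩ : ∃ t ∈ s, t ∉ p.asIdeal := by
    by_contra hc
    push Not at hc
    exact p.2.ne_top (top_le_iff.1 (hspan ▸ Ideal.span_le.2 hc))
  haveI : Algebra.IsStandardSmoothOfRelativeDimension d K (Localization.Away t) := by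
    rw [← RingHom.isStandardSmoothOfRelativeDimension_algebraMap,
      IsScalarTower.algebraMap_eq K S (Localization.Away t)]
    exact hst t hts
  haveI : Algebra.IsStandardSmooth K (Localization.Away t) :=
    Algebra.IsStandardSmoothOfRelativeDimension.isStandardSmooth d
  have hdisj : Disjoint (Submonoid.powers t : Set S) (p.asIdeal : Set S) :=
    (Ideal.disjoint_powers_iff_notMem_of_isPrime t).2 htp
  let P : PrimeSpectrum (Localization.Away t) :=
    ⟨p.asIdeal.map (algebraMap S _), IsLocalization.isPrime_of_isPrime_disjoint (Submonoid.powers t) _ _ p.2 hdisj⟩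
  haveI : Nontrivial (Localization.Away t) := ⟨⟨0, 1, fun h => P.2.ne_top (top_le_iff.1 fun x _ => by
    rw [← one_mul x, ← h, zero_mul]; exact zero_mem _)⟩⟩
  have hP : P.comap (algebraMap S _) = p := PrimeSpectrum.ext
    (IsLocalization.under_map_of_isPrime_disjoint (Submonoid.powers t) _ p.2 hdisj)
  have hb := KaehlerDifferential.isBaseChange_of_formallyEtale K S (Localization.Away t)
  rw [← hP, ← Module.rankAtStalk_isBaseChange hb, Module.rankAtStalk_eq_finrank_of_free]
  exact Module.finrank_eq_of_rank_eq (Algebra.IsStandardSmoothOfRelativeDimension.rank_kaehlerDifferential d)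

variable {V : Type u} [CommRing V] [IsDomain V] [IsDiscreteValuationRing V] {ϖ : V}

theorem isLocalization_away_fractionRing (hϖ : Irreducible ϖ) : IsLocalization.Away ϖ (FractionRing V) where
  map_units := by
    rintro ⟨_, l, rfl⟩
    exact IsUnit.mk0 _ ((map_ne_zero_iff _ (IsFractionRing.injective V (FractionRing V))).2
      (pow_ne_zero l hϖ.ne_zero))
  surj := fun z => by
    obtain ⟨a, b, hb, rfl⟩ := IsFractionRing.div_surjective (A := V) z
    obtain ⟨l, e, he⟩ := IsDiscreteValuationRing.eq_unit_mul_pow_irreducible (nonZeroDivisors.ne_zero hb) hϖ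
    refine ⟨(a * ↑e⁻¹, ⟨_, l, rfl⟩), ?_⟩
    have hb' : algebraMap V (FractionRing V) b ≠ 0 := IsFractionRing.to_map_ne_zero_of_mem_nonZeroDivisors hb
    have hpow : algebraMap V (FractionRing V) (ϖ ^ l) = algebraMap V _ b * algebraMap V _ (↑e⁻¹ : V) := by
      rw [← map_mul, he, mul_comm (↑e : V), mul_assoc, Units.mul_inv, mul_one]
    show _ * algebraMap V (FractionRing V) (ϖ ^ l) = _
    rw [hpow, ← mul_assoc, div_mul_cancel₀ _ hb', map_mul]
  exists_of_eq := fun {x y} h => ⟨1, by rw [IsFractionRing.injective V (FractionRing V) h]⟩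

theorem isLocalization_away_tensor (hϖ : Irreducible ϖ) (S : Type u) [CommRing S] [Algebra V S] :
    IsLocalization.Away (algebraMap V S ϖ) (FractionRing V ⊗[V] S) := by
  haveI := isLocalization_away_fractionRing hϖ
  have h := IsLocalization.tensorRight (R := V) (S := S) (FractionRing V) (Submonoid.powers ϖ)
  rwa [Algebra.algebraMapSubmonoid, Submonoid.map_powers] at h

/-- If the relative differentials vanish over `R[1/(aϖ)]` and both generic fibres are smooth of the same relative
dimension, then `A → R[1/(aϖ)]` is étale. -/
theorem etale_away (hϖ : Irreducible ϖ) {A R : Type u} [CommRing A] [Algebra V A] [Algebra.FiniteType V A]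
    [CommRing R] [Algebra V R] [Algebra.FiniteType V R] [Algebra A R] [IsScalarTower V A R] (d : ℕ)
    (hA : SmoothOfRelativeDimension d
      (Spec.map (CommRingCat.ofHom (algebraMap (FractionRing V) (FractionRing V ⊗[V] A)))))
    (hR : SmoothOfRelativeDimension d
      (Spec.map (CommRingCat.ofHom (algebraMap (FractionRing V) (FractionRing V ⊗[V] R)))))
    (a : R) (c : ℕ) (hΩ : ∀ w : Ω[R⁄A], (a * algebraMap V R ϖ) ^ c • w = 0) :
    ((algebraMap R (Localization.Away (a * algebraMap V R ϖ))).comp (algebraMap A R)).Etale := by
  haveI := isLocalization_away_tensor hϖ A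
  haveI := isLocalization_away_tensor hϖ R
  obtain ⟨hsA, -, hrA⟩ := formallySmooth_and_rank d hA
  obtain ⟨hsR, -, hrR⟩ := formallySmooth_and_rank d hR
  let b : FractionRing V ⊗[V] R := algebraMap R _ a
  haveI : IsLocalization.Away (a * algebraMap V R ϖ) (Localization.Away b) :=
    mul_comm a (algebraMap V R ϖ) ▸
      IsLocalization.Away.mul (FractionRing V ⊗[V] R) (Localization.Away b) (algebraMap V R ϖ) a
  let φ : FractionRing V ⊗[V] A →ₐ[FractionRing V] FractionRing V ⊗[V] R :=
    Algebra.TensorProduct.map (AlgHom.id _ _) (IsScalarTower.toAlgHom V A R)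
  letI : Algebra (FractionRing V ⊗[V] A) (Localization.Away b) :=
    ((algebraMap (FractionRing V ⊗[V] R) (Localization.Away b)).comp φ.toRingHom).toAlgebra
  haveI : IsScalarTower (FractionRing V) (FractionRing V ⊗[V] A) (Localization.Away b) :=
    IsScalarTower.of_algebraMap_eq (R := FractionRing V) (S := FractionRing V ⊗[V] A) (A := Localization.Away b)
      fun x => by
        show _ = algebraMap (FractionRing V ⊗[V] R) (Localization.Away b) (φ (algebraMap _ _ x))
        rw [AlgHom.commutes, ← IsScalarTower.algebraMap_apply]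
  letI : Algebra A (Localization.Away b) :=
    ((algebraMap R (Localization.Away b)).comp (algebraMap A R)).toAlgebra
  haveI : IsScalarTower A R (Localization.Away b) := .of_algebraMap_eq fun x => rfl
  haveI : IsScalarTower A (FractionRing V ⊗[V] A) (Localization.Away b) := .of_algebraMap_eq fun x => by
    show algebraMap R (Localization.Away b) (algebraMap A R x) = algebraMap _ _ (φ ((1 : FractionRing V) ⊗ₜ x))
    rw [IsScalarTower.algebraMap_apply R (FractionRing V ⊗[V] R) (Localization.Away b),
      Algebra.TensorProduct.map_tmul]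
    rfl
  haveI : Algebra.Etale A (FractionRing V ⊗[V] A) := Algebra.Etale.of_isLocalizationAway (algebraMap V A ϖ)
  haveI : Algebra.Etale (FractionRing V ⊗[V] R) (Localization.Away b) := Algebra.Etale.of_isLocalizationAway b
  haveI : Algebra.Smooth (FractionRing V) (Localization.Away b) :=
    Algebra.Smooth.comp (FractionRing V) (FractionRing V ⊗[V] R) (Localization.Away b)
  haveI := hsA
  haveI : Subsingleton (Ω[(Localization.Away b)⁄A]) := by
    refine subsingleton_of_forall_eq 0 fun x => ?_
    obtain ⟨⟨w, m⟩, hwm⟩ := IsLocalizedModule.surj (Submonoid.powers (a * algebraMap V R ϖ))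
      (KaehlerDifferential.map A A R (Localization.Away b)) x
    have hu : IsUnit (algebraMap R (Localization.Away b) ((a * algebraMap V R ϖ) ^ c * (m : R))) := by
      rw [map_mul, map_pow]
      exact ((IsLocalization.map_units (Localization.Away b)
        (⟨_, Submonoid.mem_powers _⟩ : Submonoid.powers (a * algebraMap V R ϖ))).pow c).mul
        (IsLocalization.map_units (Localization.Away b) m)
    refine hu.smul_eq_zero.1 ?_
    rw [algebraMap_smul, mul_smul, show (m : R) • x = m • x from rfl, hwm, ← map_smul, hΩ, map_zero]
  have hsurj : Function.Surjective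
      (KaehlerDifferential.mapBaseChange (FractionRing V) (FractionRing V ⊗[V] A) (Localization.Away b)) := by
    intro x
    refine (KaehlerDifferential.exact_mapBaseChange_map (FractionRing V) (FractionRing V ⊗[V] A)
      (Localization.Away b) x).1 ?_
    haveI : Subsingleton (Ω[(Localization.Away b)⁄(FractionRing V ⊗[V] A)]) := by
      refine subsingleton_of_forall_eq 0 fun y => ?_
      obtain ⟨z, rfl⟩ := KaehlerDifferential.map_surjective A (FractionRing V ⊗[V] A) (Localization.Away b) y
      rw [Subsingleton.elim z 0, map_zero]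
    exact Subsingleton.elim _ _
  have hbij := GrothLib.AzMod.bijective_of_surjective_of_rankAtStalk_eq (fun P => by
    rw [Module.rankAtStalk_baseChange, hrA,
      ← Module.rankAtStalk_eq_of_equiv (KaehlerDifferential.tensorKaehlerEquivOfFormallyEtale (FractionRing V)
        (FractionRing V ⊗[V] R) (Localization.Away b)), Module.rankAtStalk_baseChange, hrR])
    (KaehlerDifferential.mapBaseChange (FractionRing V) (FractionRing V ⊗[V] A) (Localization.Away b)) hsurj
  haveI : Algebra.FormallyEtale (FractionRing V ⊗[V] A) (Localization.Away b) :=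
    (GrothLib.LocProp.formallyEtale_iff_bijective_mapBaseChange (FractionRing V) _ _).2 hbij
  haveI : Algebra.FiniteType (FractionRing V) (Localization.Away b) := inferInstance
  haveI : IsNoetherianRing (FractionRing V ⊗[V] A) := Algebra.FiniteType.isNoetherianRing (FractionRing V) _
  haveI : Algebra.FiniteType (FractionRing V ⊗[V] A) (Localization.Away b) :=
    Algebra.FiniteType.of_restrictScalars_finiteType (FractionRing V) _ _
  haveI : Algebra.Etale (FractionRing V ⊗[V] A) (Localization.Away b) :=
    ⟨inferInstance, Algebra.FinitePresentation.of_finiteType.1 inferInstance⟩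
  haveI : Algebra.Etale A (Localization.Away b) := Algebra.Etale.comp A (FractionRing V ⊗[V] A) _
  rw [← IsScalarTower.algebraMap_eq A R, RingHom.etale_algebraMap]
  exact Algebra.Etale.of_equiv ((IsLocalization.algEquiv (Submonoid.powers (a * algebraMap V R ϖ))
    (Localization.Away b) (Localization.Away (a * algebraMap V R ϖ))).restrictScalars A)

end GrothLib.EtaEtale
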