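import Groth.Agent.Lib.AlgMisc.SmoothRank
import Groth.Agent.Lib.LocalDimAlg.Basic
import Groth.Agent.Lib.Chev28.FibreNorm
import Groth.Agent.Lib.EtaEtale.Basic

/-!
# Dimensions of the fibres of an algebra over a discrete valuation ring
-/

set_option autoImplicit false
universe u

open CategoryTheory Limits AlgebraicGeometry TensorProduct

namespace GrothLib.EtaEtale

theorem exists_prime_le_dim {K S : Type u} [Field K] [CommRing S] [Algebra K S] [Algebra.FiniteType K S] {s : ℕ}
    (φ : MvPolynomial (Fin s) K →ₐ[K] S) (hφ : Function.Injective φ) :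
    ∃ (P : Ideal S) (_ : P.IsPrime), (s : WithBot ℕ∞) ≤ ringKrullDim (S ⧸ P) := by
  let M : Submonoid S := (nonZeroDivisors (MvPolynomial (Fin s) K)).map φ
  have hdisj : Disjoint ((⊥ : Ideal S) : Set S) (M : Set S) := by
    rw [Set.disjoint_left]
    rintro x hx ⟨g, hg, rfl⟩
    exact nonZeroDivisors.ne_zero hg (hφ ((Ideal.mem_bot.1 hx).trans (map_zero φ).symm))
  obtain ⟨P, hP, -, hPM⟩ := Ideal.exists_le_prime_disjoint _ M hdisj
  refine ⟨P, hP, ?_⟩
  obtain ⟨n, hn, hn'⟩ := GrothLib.Dim.exists_nat_trdeg_eq_and_ringKrullDim_eq K (S ⧸ P)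
  have hind : AlgebraicIndependent K (fun i => Ideal.Quotient.mk P (φ (MvPolynomial.X i))) := by
    rw [algebraicIndependent_iff]
    intro g hg
    by_contra hg0
    refine Set.disjoint_left.1 hPM ?_ ⟨g, mem_nonZeroDivisors_of_ne_zero hg0, rfl⟩
    rw [SetLike.mem_coe, ← Ideal.Quotient.eq_zero_iff_mem, ← hg]
    exact (congrArg (fun ψ : MvPolynomial (Fin s) K →ₐ[K] S ⧸ P => ψ g)
      (MvPolynomial.algHom_ext fun i => by simp :
        MvPolynomial.aeval (fun i => Ideal.Quotient.mk P (φ (MvPolynomial.X i))) =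
          (Ideal.Quotient.mkₐ K P).comp φ)).symm
  have h := hind.lift_cardinalMk_le_trdeg
  rw [hn] at h
  have hsn : s ≤ n := by simpa using h
  rw [hn']
  exact_mod_cast hsn

theorem ringKrullDim_quotient_le_of_smooth {K S : Type u} [Field K] [CommRing S] [Algebra K S] [Algebra.FiniteType K S]
    (d : ℕ) (h : SmoothOfRelativeDimension d (Spec.map (CommRingCat.ofHom (algebraMap K S))))
    (P : Ideal S) [P.IsPrime] : ringKrullDim (S ⧸ P) ≤ d := by
  let f := Spec.map (CommRingCat.ofHom (algebraMap K S))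
  haveI : SmoothOfRelativeDimension d f := h
  haveI : Smooth f := SmoothOfRelativeDimension.smooth d f
  let x : ↥(Spec (CommRingCat.of S)) := ⟨P, inferInstance⟩
  have h1 := (GrothLib.AlgSp.localDim_of_field_bc f (IsPullback.of_hasPullback f _) (f.asFiber x)).trans
    (congrArg _ (f.fiberι_asFiber x))
  have h2 : FlatMor.localDim (PrimeSpectrum S) ⟨P, inferInstance⟩ = (d : WithBot ℕ∞) :=
    h1.symm.trans (GrothLib.FibreDimAt6.fibreDimAt_eq_of_smooth d f x)
  rw [GrothLib.LocalDimAlg.localDim_eq K P] at h2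
  rw [← h2]
  exact le_add_of_nonneg_left (WithBot.coe_le_coe.2 (zero_le (a := P.height)))

theorem le_of_injective_of_smooth {K S : Type u} [Field K] [CommRing S] [Algebra K S] [Algebra.FiniteType K S]
    (d : ℕ) (h : SmoothOfRelativeDimension d (Spec.map (CommRingCat.ofHom (algebraMap K S)))) {s : ℕ}
    (φ : MvPolynomial (Fin s) K →ₐ[K] S) (hφ : Function.Injective φ) : s ≤ d := by
  obtain ⟨P, hP, hle⟩ := exists_prime_le_dim φ hφ
  exact_mod_cast hle.trans (ringKrullDim_quotient_le_of_smooth d h P)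

theorem exists_finite_inj_dim (k S : Type u) [Field k] [CommRing S] [Nontrivial S] [Algebra k S]
    [Algebra.FiniteType k S] :
    ∃ (s : ℕ) (g : MvPolynomial (Fin s) k →ₐ[k] S), Function.Injective g ∧ g.Finite ∧ ringKrullDim S = s := by
  obtain ⟨s, G, hinj, hfin⟩ := exists_finite_inj_algHom_of_fg k S
  refine ⟨s, G, hinj, hfin, ?_⟩
  letI := G.toRingHom.toAlgebra
  haveI : Module.Finite (MvPolynomial (Fin s) k) S := hfin
  rw [GrothLib.Dim.ringKrullDim_eq_of_isIntegral (R := MvPolynomial (Fin s) k) (S := S) hinj,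
    MvPolynomial.ringKrullDim_of_isNoetherianRing, ringKrullDim_eq_zero_of_field, zero_add, Nat.card_fin]

theorem ringKrullDim_le_of_smooth {K S : Type u} [Field K] [CommRing S] [Algebra K S] [Algebra.FiniteType K S]
    (d : ℕ) (h : SmoothOfRelativeDimension d (Spec.map (CommRingCat.ofHom (algebraMap K S)))) :
    ringKrullDim S ≤ d := by
  rcases subsingleton_or_nontrivial S with hs | hn
  · rw [ringKrullDim_eq_bot_of_subsingleton]; exact bot_le
  obtain ⟨s, g, hg, -, hdim⟩ := exists_finite_inj_dim K S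
  rw [hdim]
  exact_mod_cast le_of_injective_of_smooth d h g hg

variable {V : Type u} [CommRing V] [IsDomain V] [IsDiscreteValuationRing V]

/-- The special fibre of a flat algebra has dimension at most that of a smooth generic fibre. -/
theorem ringKrullDim_special_le {ϖ : V} (hϖ : Irreducible ϖ) (R : Type u) [CommRing R] [Algebra V R]
    [Module.Flat V R] [Algebra.FiniteType V R] (d : ℕ)
    (h : SmoothOfRelativeDimension d
      (Spec.map (CommRingCat.ofHom (algebraMap (FractionRing V) (FractionRing V ⊗[V] R))))) :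
    ringKrullDim (IsLocalRing.ResidueField V ⊗[V] R) ≤ d := by
  classical
  rcases subsingleton_or_nontrivial (IsLocalRing.ResidueField V ⊗[V] R) with hs | hn
  · rw [ringKrullDim_eq_bot_of_subsingleton]; exact bot_le
  obtain ⟨s, G, hG, -, hdim⟩ := exists_finite_inj_dim (IsLocalRing.ResidueField V) (IsLocalRing.ResidueField V ⊗[V] R)
  rw [hdim]
  have hlift : ∀ z : IsLocalRing.ResidueField V ⊗[V] R, ∃ r : R, (1 : IsLocalRing.ResidueField V) ⊗ₜ[V] r = z :=
    fun z => TensorProduct.mk_surjective V R _ IsLocalRing.residue_surjective z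
  choose t ht using fun i => hlift (G (MvPolynomial.X i))
  let ι : R →ₐ[V] IsLocalRing.ResidueField V ⊗[V] R := Algebra.TensorProduct.includeRight
  have hnzd : ∀ x : R, ϖ • x = 0 → x = 0 := fun x hx =>
    Module.Flat.isSMulRegular_of_isRegular (M := R) (isRegular_iff_ne_zero.2 hϖ.ne_zero)
      (hx.trans (smul_zero ϖ).symm)
  have hinjV : ∀ F : MvPolynomial (Fin s) V, MvPolynomial.aeval t F = 0 → F = 0 := by
    intro F hF
    by_contra hF0
    have hex : ∃ n, ¬ MvPolynomial.C (ϖ ^ (n + 1)) ∣ F := by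
      obtain ⟨m, hm⟩ := MvPolynomial.ne_zero_iff.1 hF0
      obtain ⟨n, hn⟩ := FiniteMultiplicity.of_prime_left hϖ.prime hm
      exact ⟨n, fun hd => hn ((MvPolynomial.C_dvd_iff_dvd_coeff _ _).1 hd m)⟩
    obtain ⟨N, hN, hN'⟩ : ∃ N, MvPolynomial.C (ϖ ^ N) ∣ F ∧ ¬ MvPolynomial.C (ϖ ^ (N + 1)) ∣ F := by
      refine ⟨Nat.find hex, ?_, Nat.find_spec hex⟩
      rcases Nat.eq_zero_or_pos (Nat.find hex) with h0 | h0
      · rw [h0, pow_zero, map_one]; exact one_dvd _
      · have := Nat.find_min hex (show Nat.find hex - 1 < Nat.find hex by omega)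
        rw [not_not, Nat.sub_add_cancel h0] at this
        exact this
    obtain ⟨F', rfl⟩ := hN
    have hprim : ¬ MvPolynomial.C ϖ ∣ F' := fun hd => hN' (by
      rw [pow_succ, map_mul]; exact mul_dvd_mul_left _ hd)
    have hF'0 : MvPolynomial.aeval t F' = 0 := by
      rw [map_mul, MvPolynomial.aeval_C, ← Algebra.smul_def] at hF
      clear hN' hprim hex hF0
      induction N with
      | zero => rwa [pow_zero, one_smul] at hF
      | succ n ih => rw [pow_succ', mul_smul] at hF; exact ih (hnzd _ hF)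
    refine hprim ((MvPolynomial.C_dvd_iff_dvd_coeff _ _).2 fun m => ?_)
    have hmap : MvPolynomial.map (algebraMap V (IsLocalRing.ResidueField V)) F' = 0 := by
      refine hG ?_
      rw [map_zero]
      have h1 : G = MvPolynomial.aeval (fun i => ι (t i)) :=
        MvPolynomial.algHom_ext fun i => by rw [MvPolynomial.aeval_X]; exact (ht i).symm
      rw [h1, MvPolynomial.aeval_map_algebraMap, ← MvPolynomial.comp_aeval_apply, hF'0, map_zero]
    have h2 := congrArg (MvPolynomial.coeff m) hmap
    rw [MvPolynomial.coeff_map, MvPolynomial.coeff_zero, IsLocalRing.ResidueField.algebraMap_eq,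
      IsLocalRing.residue_eq_zero_iff, hϖ.maximalIdeal_eq, Ideal.mem_span_singleton] at h2
    exact h2
  let ι' : R →ₐ[V] FractionRing V ⊗[V] R := Algebra.TensorProduct.includeRight
  suffices hK : Function.Injective (MvPolynomial.aeval (fun i => ι' (t i)) :
      MvPolynomial (Fin s) (FractionRing V) →ₐ[FractionRing V] FractionRing V ⊗[V] R) by
    exact_mod_cast le_of_injective_of_smooth d h _ hK
  rw [injective_iff_map_eq_zero]
  intro g hg
  obtain ⟨⟨n, hn⟩, hn'⟩ := IsLocalization.exist_integer_multiples (nonZeroDivisors V) g.support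
    (fun m => MvPolynomial.coeff m g)
  choose! c hc using hn'
  let g₀ : MvPolynomial (Fin s) V := ∑ m ∈ g.support, MvPolynomial.monomial m (c m)
  have hg₀ : MvPolynomial.map (algebraMap V (FractionRing V)) g₀ = algebraMap V (FractionRing V) n • g := by
    conv_rhs => rw [g.as_sum, Finset.smul_sum]
    rw [map_sum]
    refine Finset.sum_congr rfl fun m hm => ?_
    rw [MvPolynomial.map_monomial, MvPolynomial.smul_monomial, hc m hm, algebraMap_smul]
  have h0 : ι' (MvPolynomial.aeval t g₀) = 0 := by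
    rw [MvPolynomial.comp_aeval_apply, ← MvPolynomial.aeval_map_algebraMap (FractionRing V), hg₀, map_smul, hg,
      smul_zero]
  have hι : Function.Injective ι' := Algebra.TensorProduct.includeRight_injective
    (IsFractionRing.injective V (FractionRing V))
  have h3 : g₀ = 0 := hinjV g₀ (hι (h0.trans (map_zero ι').symm))
  rw [h3, map_zero, eq_comm, smul_eq_zero] at hg₀
  exact hg₀.resolve_left (IsFractionRing.to_map_ne_zero_of_mem_nonZeroDivisors hn)

end GrothLib.EtaEtale
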