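import Groth.Agent.Lib.EtaEtale.Basic

/-!
# Killing differentials along the closed fibre
-/

set_option autoImplicit false
universe u

namespace GrothLib.EtaEtale

/-- Étaleness away from `f` means that a power of `f` kills the differentials. -/
theorem exists_pow_smul_eq_zero_of_etale {A R : Type u} [CommRing A] [CommRing R] [Algebra A R]
    [Algebra.FiniteType A R] (f : R)
    (h : ((algebraMap R (Localization.Away f)).comp (algebraMap A R)).Etale) :
    ∃ c : ℕ, ∀ w : Ω[R⁄A], f ^ c • w = 0 := by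
  rw [← IsScalarTower.algebraMap_eq A R, RingHom.etale_algebraMap] at h
  haveI := h
  have hsub : Subsingleton (Ω[(Localization.Away f)⁄A]) := inferInstance
  rw [IsLocalizedModule.subsingleton_iff (Submonoid.powers f)
    (KaehlerDifferential.map A A R (Localization.Away f))] at hsub
  obtain ⟨s, hs⟩ := (inferInstance : Module.Finite R Ω[R⁄A]).fg_top
  choose r hr hr0 using hsub
  choose c hc using hr
  refine ⟨s.sup c, fun w => ?_⟩
  have : (⊤ : Submodule R Ω[R⁄A]) ≤ LinearMap.ker (DistribSMul.toLinearMap R _ (f ^ s.sup c)) := by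
    rw [← hs, Submodule.span_le]
    intro m hm
    show f ^ s.sup c • m = 0
    obtain ⟨e, he⟩ := Nat.exists_eq_add_of_le (Finset.le_sup (f := c) hm)
    rw [he, pow_add, mul_comm, mul_smul, show f ^ c m = r m from hc m, hr0, smul_zero]
  exact this (x := w) trivial

/-- `p = u ϖᵉ` with `e ≥ 1`. -/
theorem exists_p_eq {V : Type u} [CommRing V] [IsDomain V] [IsDiscreteValuationRing V] [CharZero V]
    {ϖ : V} (hϖ : Irreducible ϖ) (p : ℕ) [Fact p.Prime] [CharP (IsLocalRing.ResidueField V) p] :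
    ∃ (e : ℕ) (u : Vˣ), 1 ≤ e ∧ (p : V) = u * ϖ ^ e := by
  have hp0 : (p : V) ≠ 0 := Nat.cast_ne_zero.2 (Fact.out : p.Prime).ne_zero
  obtain ⟨e, u, he⟩ := IsDiscreteValuationRing.eq_unit_mul_pow_irreducible hp0 hϖ
  refine ⟨e, u, ?_, he⟩
  by_contra hlt
  have hu : IsUnit (p : V) := by
    rw [he, show e = 0 by omega, pow_zero, mul_one]; exact u.isUnit
  exact (hu.map (IsLocalRing.residue V)).ne_zero (by rw [map_natCast, CharP.cast_eq_zero])

/-- Elements of the subring generated by `N`-th powers have differentials divisible by `N`. -/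
theorem exists_D_eq_natCast_smul (V : Type u) [CommRing V] {R : Type u} [CommRing R] [Algebra V R] (N : ℕ) {y : R}
    (hy : y ∈ Subring.closure (Set.range fun r : R => r ^ N)) :
    ∃ w : Ω[R⁄V], KaehlerDifferential.D V R y = (N : R) • w := by
  induction hy using Subring.closure_induction with
  | mem z hz =>
    obtain ⟨r, rfl⟩ := hz
    exact ⟨r ^ (N - 1) • KaehlerDifferential.D V R r, by
      rw [Derivation.leibniz_pow, Nat.cast_smul_eq_nsmul]⟩
  | zero => exact ⟨0, by rw [map_zero, smul_zero]⟩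
  | one => exact ⟨0, by rw [Derivation.map_one_eq_zero, smul_zero]⟩
  | add a b _ _ ha hb =>
    obtain ⟨⟨u, hu⟩, ⟨v, hv⟩⟩ := And.intro ha hb
    exact ⟨u + v, by rw [map_add, hu, hv, smul_add]⟩
  | neg a _ ha =>
    obtain ⟨u, hu⟩ := ha
    exact ⟨-u, by rw [map_neg, hu, smul_neg]⟩
  | mul a b _ _ ha hb =>
    obtain ⟨⟨u, hu⟩, ⟨v, hv⟩⟩ := And.intro ha hb
    exact ⟨a • v + b • u, by rw [Derivation.leibniz, hu, hv, smul_add, smul_comm a, smul_comm b]⟩

/-- If `p ^ M` is divisible by `ϖ ^ (c + 1)` and `dy` by `p ^ M`, a perturbation by `y` keeps the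
differentials generating along the closed fibre. -/
theorem exists_mem_perturb {R Ω : Type u} [CommRing R] [AddCommGroup Ω] [Module R Ω] {d : ℕ}
    (π q : R) (a : R) (c : ℕ) (v' v : Fin d → Ω) (hq : π ^ (c + 1) ∣ q)
    (ha : Ideal.span {a} ⊔ Ideal.span {π} = ⊤)
    (hgen : ∀ w : Ω, (a * π) ^ c • w ∈ Submodule.span R (Set.range v'))
    (hv : ∀ i, ∃ w : Ω, v' i - v i = q • w) :
    ∃ b : R, Ideal.span {b} ⊔ Ideal.span {π} = ⊤ ∧
      ∀ w : Ω, (b * π) ^ (c + 1) • w ∈ Submodule.span R (Set.range v) := by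
  obtain ⟨x, hx, y, hy, hxy⟩ := Submodule.mem_sup.1
    ((ha ▸ Submodule.mem_top : (1 : R) ∈ Ideal.span {a} ⊔ Ideal.span {π}))
  rw [Ideal.mem_span_singleton'] at hx hy
  obtain ⟨x, rfl⟩ := hx
  obtain ⟨y, rfl⟩ := hy
  obtain ⟨x', y', hxy'⟩ := (show IsCoprime a π from ⟨x, y, hxy⟩).pow_left (m := c)
  let S := Submodule.span R (Set.range v)
  let S' := Submodule.span R (Set.range v')
  have hstep : S'.map S.mkQ ≤ Ideal.span {π} • S'.map S.mkQ := by
    rw [Submodule.map_le_iff_le_comap, Submodule.span_le]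
    rintro _ ⟨i, rfl⟩
    rw [SetLike.mem_coe, Submodule.mem_comap]
    obtain ⟨w, hw⟩ := hv i
    obtain ⟨q', hq'⟩ := hq
    have h1 : v' i = x' • (a ^ c • v' i) + π • (y' • v' i) := by
      conv_lhs => rw [← one_smul R (v' i), ← hxy', add_smul, mul_smul, mul_comm y' π, mul_smul]
    have h2 : a ^ c • (v' i - v i) = π • (q' • ((a * π) ^ c • w)) := by
      rw [hw, hq', smul_smul, smul_smul, smul_smul]; congr 1; ring
    have h3 : S.mkQ (a ^ c • v' i) = S.mkQ (π • (q' • ((a * π) ^ c • w))) := by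
      rw [← h2, smul_sub, map_sub]
      have : S.mkQ (a ^ c • v i) = 0 :=
        (Submodule.Quotient.mk_eq_zero S).2 (S.smul_mem _ (Submodule.subset_span ⟨i, rfl⟩))
      rw [this, sub_zero]
    have h4 : S.mkQ (v' i) = π • S.mkQ (x' • (q' • ((a * π) ^ c • w)) + y' • v' i) := by
      conv_lhs => rw [h1, map_add, map_smul, h3, ← map_smul, smul_comm x' π, ← map_add, ← smul_add, map_smul]
    rw [h4]
    refine Submodule.smul_mem_smul (Ideal.mem_span_singleton_self π) (Submodule.mem_map_of_mem ?_)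
    exact S'.add_mem (S'.smul_mem _ (S'.smul_mem _ (hgen w))) (S'.smul_mem _ (Submodule.subset_span ⟨i, rfl⟩))
  obtain ⟨r, hr, hr0⟩ := Submodule.exists_sub_one_mem_and_smul_eq_zero_of_fg_of_le_smul _ _
    ((Submodule.fg_span (Set.finite_range v')).map S.mkQ) hstep
  obtain ⟨z, hz⟩ := Ideal.mem_span_singleton'.1 hr
  refine ⟨a * r, ?_, fun w => ?_⟩
  · rw [← Ideal.span_insert, Ideal.eq_top_iff_one, Ideal.mem_span_pair]
    obtain ⟨s, t, hst⟩ := (show IsCoprime a π from ⟨x, y, hxy⟩).mul_left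
      (show IsCoprime r π from ⟨1, -z, by linear_combination -hz⟩)
    exact ⟨s, t, hst⟩
  · have h1 : r • ((a * π) ^ c • w) ∈ S := (Submodule.Quotient.mk_eq_zero S).1
      ((map_smul S.mkQ _ _).trans (hr0 _ (Submodule.mem_map_of_mem (hgen w))))
    have h2 := S.smul_mem (a * r ^ c * π) h1
    rw [smul_smul, smul_smul] at h2
    convert h2 using 2
    ring

end GrothLib.EtaEtale
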